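import Cfsg.Agent.Lib.SLTwoPrime.Core
import Cfsg.Agent.Lib.KnownA.PrimeDim.Core

/-!
A minimal non-scalar normal absolutely irreducible subgroup in dimension 12 is a core: it is perfect and simple
modulo scalars. The argument follows the one for dimension twice an odd prime.
-/

set_option autoImplicit false

namespace Cfsg.Agent.Lib.TwelveDim

open Cfsg.Geo Matrix
open Cfsg.Agent.Lib.SLTwoPrime
open Cfsg.Agent.Lib
open scoped MatrixGroups Kronecker commutatorElement

variable {ι : Type} [Fintype ι] [DecidableEq ι] {F : Type*} [Field F]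

section Finite

variable [Finite F] [Nonempty ι] {H : Subgroup (GL ι F)}

/-- An absolutely irreducible group spans the whole matrix algebra. -/
theorem adj_top {P : Subgroup (GL ι F)} (habs : ActsAbsolutelyIrreducibly (matrixSet P)) : adj P = ⊤ := by
  obtain ⟨d, φ, hd, hrange, hφ⟩ := matrix_form habs.1 (inv_adj fun g hg x hx => P.mul_mem (P.mul_mem hg hx) (P.inv_mem hg))
    fun z _ hzc => habs.2 z (by rintro _ ⟨x, hx, rfl⟩; exact hzc _ (mem_adj hx))
  obtain ⟨w, e, Q, hdw, hQ⟩ := units_form hd φ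
  let Rr : Matrix (Fin d × Fin w) (Fin d × Fin w) F ≃ₐ[F] Matrix ι ι F :=
    (Matrix.reindexAlgEquiv F F e.symm).trans (cjA Q)
  have hQ' : ∀ a, φ a = Rr (a ⊗ₖ 1) := fun a => by rw [hQ]; rfl
  obtain rfl : w = 1 := by
    by_contra hw1
    have hw : 0 < w := Nat.pos_of_ne_zero fun h => by subst h; rw [mul_zero] at hdw; exact Fintype.card_ne_zero hdw.symm
    let i0 : Fin w := ⟨0, hw⟩
    let i1 : Fin w := ⟨1, by omega⟩
    obtain ⟨c, hc⟩ := habs.2 (Rr (1 ⊗ₖ Matrix.single i0 i0 1)) (by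
      rintro _ ⟨x, hx, rfl⟩
      show _ * (x : Matrix ι ι F) = (x : Matrix ι ι F) * _
      obtain ⟨a, ha⟩ : (x : Matrix ι ι F) ∈ φ.range := hrange ▸ mem_adj hx
      rw [← ha]
      show _ * φ a = φ a * _
      rw [hQ', ← map_mul, ← map_mul, ← mul_kronecker_mul, ← mul_kronecker_mul, one_mul, mul_one, one_mul, mul_one])
    have h3 : (1 : Matrix (Fin d) (Fin d) F) ⊗ₖ Matrix.single i0 i0 (1 : F) = c • 1 :=
      Rr.injective (by rw [map_smul, map_one]; exact hc)
    have h4 := congrFun (congrFun h3 (⟨0, hd⟩, i0)) (⟨0, hd⟩, i0)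
    have h5 := congrFun (congrFun h3 (⟨0, hd⟩, i1)) (⟨0, hd⟩, i1)
    simp [Matrix.kroneckerMap_apply, i0, i1] at h4 h5
    exact one_ne_zero (h4.trans h5.symm)
  rw [← hrange]
  refine Algebra.toSubmodule_eq_top.1 (Submodule.eq_top_of_finrank_eq ?_)
  rw [mul_one] at hdw
  rw [Subalgebra.finrank_toSubmodule, ← (AlgEquiv.ofInjective φ hφ).toLinearEquiv.finrank_eq]
  simp [Module.finrank_matrix, hdw]

/-- Conjugated algebras of elementwise commuting groups commute. -/
theorem commute_conj {S : Subgroup (GL ι F)} {k : GL ι F}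
    (h : ∀ x ∈ S, ∀ y ∈ S, (k * y * k⁻¹) * x = x * (k * y * k⁻¹)) {a b : Matrix ι ι F} (ha : a ∈ adj S) (hb : b ∈ adj S) :
    cjA k a * b = b * cjA k a := by
  refine commute_adj (N := S) (fun x hx => ?_) _ hb
  have h1 := commute_adj (N := S) (M := ((k⁻¹ * x * k : GL ι F) : Matrix ι ι F)) (fun y hy => by
    have := congrArg (fun u => k⁻¹ * u * k) (h x hx y hy).symm
    simpa [mul_assoc] using congrArg Units.val this) _ ha
  have h2 := congrArg (cjA k) h1
  rw [map_mul, map_mul, show cjA k ((k⁻¹ * x * k : GL ι F) : Matrix ι ι F) = x by simp [mul_assoc]] at h2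
  exact h2.symm

omit [Finite F] [Nonempty ι] in
/-- An algebra commuting with the first tensor factor lives in the second. -/
theorem factor {d w : ℕ} (hd : 0 < d) (Rr : Matrix (Fin d × Fin w) (Fin d × Fin w) F ≃ₐ[F] Matrix ι ι F)
    (ψ : Matrix (Fin d) (Fin d) F →ₐ[F] Matrix ι ι F)
    (h : ∀ a b, ψ a * Rr (b ⊗ₖ 1) = Rr (b ⊗ₖ 1) * ψ a) :
    ∃ χ : Matrix (Fin d) (Fin d) F →ₐ[F] Matrix (Fin w) (Fin w) F, ∀ a, ψ a = Rr (1 ⊗ₖ χ a) := by
  have hr : ∀ a, (Rr.symm.toAlgHom.comp ψ) a ∈ (kronHom d w).range := fun a => by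
    obtain ⟨B, hB⟩ := kron_commutant hd (Rr.symm (ψ a)) fun i j => by
      apply Rr.injective
      rw [map_mul, map_mul, AlgEquiv.apply_symm_apply]
      exact h a _
    exact ⟨B, hB.symm⟩
  refine ⟨(AlgEquiv.ofInjective (kronHom (F := F) d w) (kronHom_injective hd w)).symm.toAlgHom.comp
    ((Rr.symm.toAlgHom.comp ψ).codRestrict (kronHom d w).range hr), fun a => ?_⟩
  have h1 := congrArg Subtype.val ((AlgEquiv.ofInjective (kronHom (F := F) d w) (kronHom_injective hd w)).apply_symm_apply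
    ⟨(Rr.symm.toAlgHom.comp ψ) a, hr a⟩)
  exact ((congrArg Rr h1).trans (Rr.apply_symm_apply _)).symm

omit [Finite F] [Nonempty ι] in
/-- In `2 × 6` coordinates there is room for at most one further factor of degree two, and then something
commutes with both. -/
theorem two_factors (Rr : Matrix (Fin 2 × Fin 6) (Fin 2 × Fin 6) F ≃ₐ[F] Matrix ι ι F)
    (ψ : Matrix (Fin 2) (Fin 2) F →ₐ[F] Matrix ι ι F) (h : ∀ a b, ψ a * Rr (b ⊗ₖ 1) = Rr (b ⊗ₖ 1) * ψ a) :
    (∀ ψ' : Matrix (Fin 2) (Fin 2) F →ₐ[F] Matrix ι ι F, (∀ a b, ψ' a * Rr (b ⊗ₖ 1) = Rr (b ⊗ₖ 1) * ψ' a) →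
      (∀ a b, ψ' a * ψ b = ψ b * ψ' a) → False) ∧
    ∃ M : Matrix ι ι F, (∀ a, M * Rr (a ⊗ₖ 1) = Rr (a ⊗ₖ 1) * M) ∧ (∀ a, M * ψ a = ψ a * M) ∧ ∀ c : F, M ≠ c • 1 := by
  obtain ⟨χ, hχ⟩ := factor (by norm_num) Rr ψ h
  obtain ⟨v, e', Q', hv, hQe⟩ := units_form (by norm_num : 0 < 2) χ
  rw [Fintype.card_fin] at hv
  obtain rfl : v = 3 := by omega
  let R' : Matrix (Fin 2 × Fin 3) (Fin 2 × Fin 3) F ≃ₐ[F] Matrix (Fin 6) (Fin 6) F :=
    (Matrix.reindexAlgEquiv F F e'.symm).trans (cjA Q')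
  have hR' : ∀ a, χ a = R' (a ⊗ₖ 1) := fun a => by rw [hQe]; rfl
  refine ⟨fun ψ' hψ' hcom => ?_, Rr (1 ⊗ₖ R' (1 ⊗ₖ Matrix.single (0 : Fin 3) (0 : Fin 3) (1 : F))), fun a => ?_, fun a => ?_, fun c hc => ?_⟩
  · obtain ⟨η, hη⟩ := factor (by norm_num) Rr ψ' hψ'
    obtain ⟨θ, hθ⟩ := factor (by norm_num) R' η fun a b => by
      rw [← hR']
      apply kronHom_injective (F := F) (by norm_num : 0 < 2) 6
      apply Rr.injective
      have h2 := hcom a b
      rw [hη, hχ, ← map_mul, ← map_mul] at h2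
      rw [map_mul (kronHom 2 6), map_mul (kronHom 2 6)]
      exact h2
    have h23 := dvd_of_units (by norm_num : 0 < 2) θ
    norm_num at h23
  · simp only [← map_mul, ← mul_kronecker_mul, one_mul, mul_one]
  · simp only [hχ, hR', ← map_mul, ← mul_kronecker_mul, one_mul, mul_one]
  · have h2 : (1 : Matrix (Fin 2) (Fin 2) F) ⊗ₖ R' (1 ⊗ₖ Matrix.single (0 : Fin 3) (0 : Fin 3) (1 : F)) = c • 1 :=
      Rr.injective (by rw [map_smul, map_one]; exact hc)
    have h2' : R' (1 ⊗ₖ Matrix.single (0 : Fin 3) (0 : Fin 3) (1 : F)) = c • 1 :=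
      kronHom_injective (F := F) (by norm_num : 0 < 2) 6 (h2.trans (by rw [map_smul, map_one]))
    have h3 : (1 : Matrix (Fin 2) (Fin 2) F) ⊗ₖ (Matrix.single (0 : Fin 3) (0 : Fin 3) (1 : F)) = c • 1 :=
      R'.injective (by rw [map_smul, map_one]; exact h2')
    have h4 := congrFun (congrFun h3 (0, 0)) (0, 0)
    have h5 := congrFun (congrFun h3 (0, 1)) (0, 1)
    simp [Matrix.kroneckerMap_apply] at h4 h5
    exact one_ne_zero (h4.trans h5.symm)

/-- a group which is abelian modulo scalars cannot span in this dimension -/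
theorem abelian_false (hn : Fintype.card ι = 12) {N : Subgroup (GL ι F)}
    (hN : ∀ g ∈ H, ∀ x ∈ N, g * x * g⁻¹ ∈ N) (htop : adj N = ⊤)
    (hab : ∀ x ∈ N, ∀ y ∈ N, x * y * x⁻¹ * y⁻¹ ∈ scalars ι F)
    (hmin : ∀ M : Subgroup (GL ι F), M ≤ N → (∀ g ∈ H, ∀ x ∈ M, g * x * g⁻¹ ∈ M) → ¬ M ≤ scalars ι F → M = N) :
    False := by
  classical
  have : Finite N := inferInstance
  let Z := (scalars ι F).subgroupOf N
  let ρ : N ⧸ Z → Matrix ι ι F := fun q => ((q.out : N) : GL ι F)
  have hcj : ∀ (x : N) (q : N ⧸ Z), ∃ c : F, ((x : GL ι F) : Matrix ι ι F) * ρ q * (((x : GL ι F)⁻¹ : GL ι F) : Matrix ι ι F) = c • ρ q := by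
    intro x q
    obtain ⟨c, hc⟩ := (mem_scalars_iff _).1 (hab x x.2 q.out q.out.2)
    refine ⟨c, ?_⟩
    have := congrArg (· * ρ q) hc
    simp only [ρ, Units.val_mul, smul_mul_assoc, one_mul, Units.inv_mul_cancel_right] at this
    exact this
  choose χ hχ using hcj
  have hsep : ∀ a b, (∀ x, χ x a = χ x b) → a = b := by
    intro a b hab'
    obtain ⟨c, hc⟩ := scalar_of_commute htop
      (M := (((a.out : GL ι F)⁻¹ * b.out : GL ι F) : Matrix ι ι F)) fun x hx => by
        have hne : χ ⟨x, hx⟩ a ≠ 0 := fun h0 => by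
          have := hχ ⟨x, hx⟩ a
          rw [h0, zero_smul] at this
          have hu : IsUnit (((x : GL ι F) : Matrix ι ι F) * ρ a * (((x : GL ι F)⁻¹ : GL ι F) : Matrix ι ι F)) :=
            ((Units.isUnit _).mul (Units.isUnit _)).mul (Units.isUnit _)
          rw [this] at hu
          exact not_isUnit_zero hu
        have ha := hχ ⟨x, hx⟩ a
        have hb := hχ ⟨x, hx⟩ b
        rw [← hab'] at hb
        have key : (x * a.out * x⁻¹ : GL ι F)⁻¹ * (x * b.out * x⁻¹) = (a.out : GL ι F)⁻¹ * b.out := by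
          rw [inv_mul_eq_iff_eq_mul]
          apply Units.ext
          simp only [Units.val_mul]
          simp only [ρ] at ha hb
          rw [ha, hb, smul_mul_assoc, Units.mul_inv_cancel_left]
        rw [show (x * a.out * x⁻¹ : GL ι F)⁻¹ * (x * b.out * x⁻¹) = x * ((a.out : GL ι F)⁻¹ * b.out) * x⁻¹ by group,
          mul_inv_eq_iff_eq_mul] at key
        simpa only [Units.val_mul, mul_assoc] using congrArg Units.val key.symm
    have := mem_scalars_of_val hc
    rw [← QuotientGroup.out_eq' a, ← QuotientGroup.out_eq' b]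
    exact QuotientGroup.eq.2 (by simpa [Z, Subgroup.mem_subgroupOf] using this)
  have hli : LinearIndependent F ρ := by
    rw [linearIndependent_iff']
    intro s
    induction s using Finset.induction with
    | empty => intro c _ i hi; simp at hi
    | @insert a s ha ih =>
      intro c hc
      rw [Finset.sum_insert ha] at hc
      have hs : ∀ q ∈ s, c q = 0 := by
        intro q hq
        obtain ⟨x, hx⟩ : ∃ x, χ x q ≠ χ x a := by
          by_contra hcon; push Not at hcon; exact ha (hsep q a hcon ▸ hq)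
        have h1 := congrArg (fun y => ((x : GL ι F) : Matrix ι ι F) * y * (((x : GL ι F)⁻¹ : GL ι F) : Matrix ι ι F)) hc
        simp only [mul_add, add_mul, Finset.mul_sum, Finset.sum_mul, mul_smul_comm, smul_mul_assoc, hχ, mul_zero, zero_mul] at h1
        have h2 := congrArg (χ x a • ·) hc
        simp only [smul_add, Finset.smul_sum, smul_zero] at h2
        have h3 : ∑ r ∈ s, (c r * (χ x r - χ x a)) • ρ r = 0 := by
          have e1 : c a • χ x a • ρ a = χ x a • c a • ρ a := smul_comm _ _ _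
          rw [e1] at h1
          have := h1.trans h2.symm
          rw [add_right_inj] at this
          rw [Finset.sum_congr rfl (fun r _ => show (c r * (χ x r - χ x a)) • ρ r = c r • χ x r • ρ r - χ x a • c r • ρ r by module),
            Finset.sum_sub_distrib, this, sub_self]
        exact (mul_eq_zero.1 (ih _ h3 q hq)).resolve_right (sub_ne_zero.2 hx)
      intro i hi
      rcases Finset.mem_insert.1 hi with rfl | hi
      · rw [Finset.sum_eq_zero (fun r hr => by rw [hs r hr, zero_smul]), add_zero, smul_eq_zero] at hc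
        exact hc.resolve_right (fun h0 => by
          have hu := Units.isUnit ((i.out : N) : GL ι F)
          simp only [ρ] at h0; rw [h0] at hu; exact not_isUnit_zero hu)
      · exact hs i hi
  have hsp : (⊤ : Submodule F (Matrix ι ι F)) ≤ Submodule.span F (Set.range ρ) := by
    rw [← Algebra.top_toSubmodule, ← htop, Algebra.adjoin_eq_span]
    refine Submodule.span_le.2 fun y hy => ?_
    have hy' : y ∈ matrixSet N := by
      induction hy using Submonoid.closure_induction with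
      | mem y hy => exact hy
      | one => exact ⟨1, N.one_mem, rfl⟩
      | mul a b _ _ ha hb =>
        obtain ⟨x, hx, rfl⟩ := ha; obtain ⟨z, hz, rfl⟩ := hb
        exact ⟨x * z, N.mul_mem hx hz, rfl⟩
    obtain ⟨x, hx, rfl⟩ := hy'
    have hmem : (QuotientGroup.mk (⟨x, hx⟩ : N) : N ⧸ Z).out⁻¹ * ⟨x, hx⟩ ∈ Z :=
      QuotientGroup.eq.1 (QuotientGroup.out_eq' _)
    obtain ⟨c, hc⟩ := (mem_scalars_iff _).1 (Subgroup.mem_subgroupOf.1 hmem)
    have e1 : (x : Matrix ι ι F) = (c : F) • ρ (QuotientGroup.mk (⟨x, hx⟩ : N)) := by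
      have := congrArg (ρ (QuotientGroup.mk (⟨x, hx⟩ : N)) * ·) hc
      simp only [ρ, Subgroup.coe_mul, Subgroup.coe_inv, Units.val_mul, Units.mul_inv_cancel_left, mul_smul_comm, mul_one] at this
      exact this
    show (x : Matrix ι ι F) ∈ Submodule.span F (Set.range ρ)
    rw [e1]
    exact Submodule.smul_mem _ _ (Submodule.subset_span ⟨_, rfl⟩)
  have : Fintype (N ⧸ Z) := Fintype.ofFinite _
  have hcard : Nat.card (N ⧸ Z) = 12 * 12 := by
    have := (Module.finrank_eq_card_basis (Module.Basis.mk hli hsp)).symm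
    rw [Module.finrank_matrix, hn, Module.finrank_self, mul_one] at this
    rw [Nat.card_eq_fintype_card]; exact this
  let N2 : Subgroup (GL ι F) :=
    { carrier := {x | x ∈ N ∧ x * x ∈ scalars ι F}
      one_mem' := ⟨N.one_mem, by rw [mul_one]; exact Subgroup.one_mem _⟩
      mul_mem' := fun {x y} hx hy => ⟨N.mul_mem hx.1 hy.1, by
        have hc := hab y hy.1 x hx.1
        rw [show x * y * (x * y) = x * (y * x * y⁻¹ * x⁻¹) * x * (y * y) by group, ← commute_scalar hc,
          mul_assoc _ x x]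
        exact mul_mem (mul_mem hc hx.2) hy.2⟩
      inv_mem' := fun {x} hx => ⟨N.inv_mem hx.1, by rw [← _root_.mul_inv_rev]; exact inv_mem hx.2⟩ }
  haveI : Fact (Nat.Prime 2) := ⟨Nat.prime_two⟩
  haveI : Fact (Nat.Prime 3) := ⟨Nat.prime_three⟩
  obtain ⟨a, ha⟩ := exists_prime_orderOf_dvd_card' (G := N ⧸ Z) 2 (by rw [hcard]; norm_num)
  obtain ⟨b, hb⟩ := exists_prime_orderOf_dvd_card' (G := N ⧸ Z) 3 (by rw [hcard]; norm_num)
  obtain ⟨x, rfl⟩ := QuotientGroup.mk_surjective a
  obtain ⟨y, rfl⟩ := QuotientGroup.mk_surjective b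
  have h2 : ∀ z : N, (z : GL ι F) * z ∈ scalars ι F ↔ (QuotientGroup.mk z : N ⧸ Z) ^ 2 = 1 := fun z => by
    rw [← QuotientGroup.mk_pow, QuotientGroup.eq_one_iff, Subgroup.mem_subgroupOf, pow_two]; rfl
  have hN2 : N2 = N := hmin N2 (fun z hz => hz.1) (fun g hg z hz => ⟨hN g hg z hz.1, by
      rw [show g * z * g⁻¹ * (g * z * g⁻¹) = g * (z * z) * g⁻¹ by group]
      exact scalars_normal.conj_mem _ hz.2 g⟩) (fun hle => by
    have hxN : (x : GL ι F) ∈ N2 := ⟨x.2, (h2 x).2 (ha ▸ pow_orderOf_eq_one _)⟩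
    have : (QuotientGroup.mk x : N ⧸ Z) = 1 := (QuotientGroup.eq_one_iff _).2 (Subgroup.mem_subgroupOf.2 (hle hxN))
    rw [this, orderOf_one] at ha; omega)
  have hy2 : (y : GL ι F) ∈ N2 := hN2.symm ▸ y.2
  have := Nat.le_of_dvd two_pos (orderOf_dvd_of_pow_eq_one ((h2 y).1 hy2.2))
  rw [hb] at this
  omega

set_option maxHeartbeats 1000000 in
/-- A minimal non-scalar normal subgroup which is absolutely irreducible is a core. -/
theorem core (hn : Fintype.card ι = 12) {P : Subgroup (GL ι F)} (hPH : P ≤ H)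
    (hPn : ∀ g ∈ H, ∀ x ∈ P, g * x * g⁻¹ ∈ P) (hPsc : ¬ P ≤ scalars ι F)
    (hmin : ∀ M : Subgroup (GL ι F), M ≤ P → (∀ g ∈ H, ∀ x ∈ M, g * x * g⁻¹ ∈ M) → ¬ M ≤ scalars ι F → M = P)
    (habs : ActsAbsolutelyIrreducibly (matrixSet P)) : KnownA.PrimeDim.Core H P := by
  classical
  set Sc := scalars ι F
  have htop : adj P = ⊤ := adj_top habs
  have hnab : ¬ ∀ x ∈ P, ∀ y ∈ P, x * y * x⁻¹ * y⁻¹ ∈ Sc := fun hab => abelian_false hn hPn htop hab hmin
  have conj_comm : ∀ (R : Subgroup (GL ι F)), (∀ g ∈ H, ∀ x ∈ R, g * x * g⁻¹ ∈ R) →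
      ∀ g ∈ H, ∀ x ∈ ⁅R, R⁆, g * x * g⁻¹ ∈ ⁅R, R⁆ := by
    intro R hR g hg
    have : (⁅R, R⁆).map (MulAut.conj g).toMonoidHom ≤ ⁅R, R⁆ := by
      rw [Subgroup.map_commutator]
      refine Subgroup.commutator_mono ?_ ?_ <;> rintro _ ⟨x, hx, rfl⟩ <;> exact hR g hg x hx
    exact fun x hx => this ⟨x, hx, rfl⟩
  have hperf : ⁅P, P⁆ = P := hmin _ (Subgroup.commutator_le.2 fun a ha b hb =>
    mul_mem (mul_mem (mul_mem ha hb) (inv_mem ha)) (inv_mem hb)) (conj_comm P hPn)
    fun hle => hnab fun x hx y hy => hle (Subgroup.commutator_mem_commutator hx hy)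
  have hcomm : ∀ g : GL ι F, (∀ x ∈ P, g * x * g⁻¹ * x⁻¹ ∈ Sc) → g ∈ Sc := by
    intro g hg
    obtain ⟨c, hc⟩ := scalar_of_commute htop (M := (g : Matrix ι ι F)) fun x hx =>
      congrArg Units.val (commute_of_perfect hg (hperf.symm ▸ hx))
    exact mem_scalars_of_val hc
  -- minimal normal subgroups of the socle above the scalars
  obtain ⟨R, hRmem, hRmin⟩ := Set.exists_min_image
    {N : Subgroup (GL ι F) | N ≤ P ∧ P ⊓ Sc ≤ N ∧ (∀ g ∈ P, ∀ x ∈ N, g * x * g⁻¹ ∈ N) ∧ ¬ N ≤ Sc} (fun N => Nat.card N)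
    (Set.toFinite _) ⟨P, le_rfl, inf_le_left, fun g hg x hx => mul_mem (mul_mem hg hx) (inv_mem hg), hPsc⟩
  obtain ⟨hRP, hZR, hRn, hRsc⟩ := hRmem
  have hcjmem : ∀ (h : GL ι F) (x : GL ι F), x ∈ R.map (MulAut.conj h).toMonoidHom ↔ h⁻¹ * x * h ∈ R := by
    intro h x
    constructor
    · rintro ⟨y, hy, rfl⟩
      have : h⁻¹ * (MulAut.conj h y) * h = y := by simp [mul_assoc]
      exact this.symm ▸ hy
    · intro hx; exact ⟨_, hx, by simp [mul_assoc]⟩
  have hother : ∀ h ∈ H, R.map (MulAut.conj h).toMonoidHom ≠ R → ∀ a ∈ R.map (MulAut.conj h).toMonoidHom, ∀ b ∈ R,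
      a * b * a⁻¹ * b⁻¹ ∈ Sc := by
    intro h hh hne a ha b hb
    set R' := R.map (MulAut.conj h).toMonoidHom with hR'
    have hR'P : R' ≤ P := by rintro _ ⟨y, hy, rfl⟩; exact hPn h hh y (hRP hy)
    have hR'n : ∀ g ∈ P, ∀ x ∈ R', g * x * g⁻¹ ∈ R' := by
      intro g hg x hx
      rw [hR', hcjmem] at hx ⊢
      have := hRn _ (by simpa using hPn h⁻¹ (inv_mem hh) g hg) _ hx
      simpa [mul_assoc] using this
    have hint : R' ⊓ R ≤ Sc := by
      by_contra hnot
      have h1 : R' ⊓ R = R := Subgroup.eq_of_le_of_card_ge inf_le_right (hRmin _ ⟨inf_le_right.trans hRP,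
        le_inf (fun x hx => by
          rw [hR', hcjmem]
          refine hZR ⟨by simpa using hPn h⁻¹ (inv_mem hh) x hx.1, ?_⟩
          simpa using scalars_normal.conj_mem x hx.2 h⁻¹) hZR,
        fun g hg x hx => ⟨hR'n g hg x hx.1, hRn g hg x hx.2⟩, hnot⟩)
      refine hne (Subgroup.eq_of_le_of_card_ge (inf_eq_right.1 h1) ?_).symm
      exact (Subgroup.card_map_of_injective (MulAut.conj h).injective).le
    refine hint (Subgroup.mem_inf.2 ⟨?_, ?_⟩)
    · rw [show a * b * a⁻¹ * b⁻¹ = a * (b * a⁻¹ * b⁻¹) by group]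
      exact mul_mem ha (hR'n b (hRP hb) _ (inv_mem ha))
    · exact mul_mem (hRn a (hR'P ha) b hb) (inv_mem hb)
  have hRnab : ¬ ∀ a ∈ R, ∀ b ∈ R, a * b * a⁻¹ * b⁻¹ ∈ Sc := by
    intro hab
    -- all conjugates commute modulo scalars
    have hall : ∀ h ∈ H, ∀ k ∈ H, ∀ a ∈ R, ∀ b ∈ R,
        h * a * h⁻¹ * (k * b * k⁻¹) * (h * a * h⁻¹)⁻¹ * (k * b * k⁻¹)⁻¹ ∈ Sc := by
      intro h hh k hk a ha b hb
      have key : k⁻¹ * h * a * (k⁻¹ * h)⁻¹ * b * (k⁻¹ * h * a * (k⁻¹ * h)⁻¹)⁻¹ * b⁻¹ ∈ Sc := by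
        by_cases he : R.map (MulAut.conj (k⁻¹ * h)).toMonoidHom = R
        · exact hab _ (he ▸ ⟨a, ha, rfl⟩) b hb
        · exact hother _ (mul_mem (inv_mem hk) hh) he _ ⟨a, ha, rfl⟩ b hb
      have := scalars_normal.conj_mem _ key k
      convert this using 1
      group
    let S : Set (GL ι F) := {x | ∃ h ∈ H, ∃ a ∈ R, x = h * a * h⁻¹}
    have hgen : Subgroup.closure S = P := by
      refine hmin _ ((Subgroup.closure_le _).2 ?_) (fun g hg x hx => ?_) fun hle => hRsc fun a ha => hle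
        (Subgroup.subset_closure ⟨1, one_mem _, a, ha, by simp⟩)
      · rintro _ ⟨h, hh, a, ha, rfl⟩; exact hPn h hh a (hRP ha)
      · have : (Subgroup.closure S).map (MulAut.conj g).toMonoidHom ≤ Subgroup.closure S := by
          rw [MonoidHom.map_closure, Subgroup.closure_le]
          rintro _ ⟨_, ⟨h, hh, a, ha, rfl⟩, rfl⟩
          exact Subgroup.subset_closure ⟨g * h, mul_mem hg hh, a, ha, by simp [mul_assoc]⟩
        exact this ⟨x, hx, rfl⟩
    apply hPsc
    intro x hx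
    have hq : ∀ u ∈ S, ∀ v ∈ S, Commute (QuotientGroup.mk' Sc u) (QuotientGroup.mk' Sc v) := by
      rintro _ ⟨h, hh, a, ha, rfl⟩ _ ⟨k, hk, b, hb, rfl⟩
      rw [Commute, SemiconjBy, ← commutatorElement_eq_one_iff_mul_comm, ← map_commutatorElement]
      exact (QuotientGroup.eq_one_iff _).2 (hall h hh k hk a ha b hb)
    rw [← hperf] at hx
    refine (Subgroup.commutator_le.2 fun u hu v hv => ?_ : ⁅P, P⁆ ≤ Sc) hx
    rw [← QuotientGroup.eq_one_iff, ← QuotientGroup.mk'_apply, map_commutatorElement, commutatorElement_eq_one_iff_mul_comm]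
    rw [← hgen] at hu hv
    induction hu, hv using Subgroup.closure_induction₂ with
    | mem u v hu hv => exact hq u hu v hv
    | one_left v _ => simp
    | one_right u _ => simp
    | mul_left u u' v _ _ _ h1 h2 => rw [map_mul]; exact (Commute.mul_left h1 h2).eq
    | mul_right u v v' _ _ _ h1 h2 => rw [map_mul]; exact (Commute.mul_right h1 h2).eq
    | inv_left u v _ _ h1 => rw [map_inv]; exact (Commute.inv_left h1).eq
    | inv_right u v _ _ h1 => rw [map_inv]; exact (Commute.inv_right h1).eq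
  set S := ⁅R, R⁆ with hS
  have hSP : S ≤ P := (Subgroup.commutator_mono hRP hRP).trans hperf.le
  have hSsc : ¬ S ≤ Sc := fun hle => hRnab fun a ha b hb => hle (Subgroup.commutator_mem_commutator ha hb)
  have hSn : ∀ g ∈ P, ∀ x ∈ S, g * x * g⁻¹ ∈ S := by
    intro g hg
    have : S.map (MulAut.conj g).toMonoidHom ≤ S := by
      rw [hS, Subgroup.map_commutator]
      refine Subgroup.commutator_mono ?_ ?_ <;> rintro _ ⟨x, hx, rfl⟩ <;> exact hRn g hg x hx
    exact fun x hx => this ⟨x, hx, rfl⟩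
  have hfix : ∀ h ∈ H, R.map (MulAut.conj h).toMonoidHom = R := by
    by_contra hcon
    push Not at hcon
    obtain ⟨h, hh, hne⟩ := hcon
    -- the other conjugate centralises
    have hcen : ∀ h ∈ H, R.map (MulAut.conj h).toMonoidHom ≠ R → ∀ s ∈ S,
        ∀ a ∈ R.map (MulAut.conj h).toMonoidHom, a * s = s * a :=
      fun h hh hne s hs a ha => commute_of_perfect (fun r hr => hother h hh hne a ha r hr) hs
    let gen : Set (GL ι F) := {x | ∃ k ∈ H, ∃ s ∈ S, x = k * s * k⁻¹}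
    have hgen : Subgroup.closure gen = P := by
      refine hmin _ ((Subgroup.closure_le _).2 ?_) (fun g hg x hx => ?_) fun hle => hSsc fun s hs => hle
        (Subgroup.subset_closure ⟨1, one_mem _, s, hs, by simp⟩)
      · rintro _ ⟨k, hk, a, ha, rfl⟩; exact hPn k hk a (hSP ha)
      · have : (Subgroup.closure gen).map (MulAut.conj g).toMonoidHom ≤ Subgroup.closure gen := by
          rw [MonoidHom.map_closure, Subgroup.closure_le]
          rintro _ ⟨_, ⟨k, hk, a, ha, rfl⟩, rfl⟩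
          exact Subgroup.subset_closure ⟨g * k, mul_mem hg hk, a, ha, by simp [mul_assoc]⟩
        exact this ⟨x, hx, rfl⟩
    have hSR : S ≤ R := Subgroup.commutator_le.2 fun a ha b hb =>
      mul_mem (mul_mem (mul_mem ha hb) (inv_mem ha)) (inv_mem hb)
    have hA := inv_adj hSn
    obtain ⟨d, φ, hd, hrange, hφ⟩ := matrix_form (absIrred_of_top htop).1 hA fun z hz hzc => by
      refine scalar_of_commute htop fun x hx => ?_
      rw [← hgen] at hx
      let C : Subgroup (GL ι F) :=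
        { carrier := {x | z * (x : Matrix ι ι F) = (x : Matrix ι ι F) * z}
          one_mem' := by simp
          mul_mem' := fun {a b} ha hb => by
            simp only [Set.mem_ofPred_eq, Units.val_mul] at *
            rw [← mul_assoc, ha, mul_assoc, hb, mul_assoc]
          inv_mem' := fun {a} ha => by
            simp only [Set.mem_ofPred_eq] at *
            rw [Units.eq_inv_mul_iff_mul_eq, ← mul_assoc, ← ha, Units.mul_inv_cancel_right] }
      refine (Subgroup.closure_le C).2 ?_ hx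
      rintro _ ⟨k, hk, s, hs, rfl⟩
      by_cases he : R.map (MulAut.conj k).toMonoidHom = R
      · have he' : S.map (MulAut.conj k).toMonoidHom = S := by rw [hS, Subgroup.map_commutator, he]
        exact hzc _ (mem_adj (he' ▸ ⟨s, hs, rfl⟩ : k * s * k⁻¹ ∈ S))
      · refine (commute_adj (N := S) (fun t ht => ?_) z hz).symm
        exact congrArg Units.val (hcen k hk he t ht _ ⟨s, hSR hs, rfl⟩)
    obtain ⟨w, e, Q, hdw, hQ⟩ := units_form hd φ
    have hd2 : 2 ≤ d := by
      by_contra hlt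
      refine hSsc fun x hx => ?_
      have hx' : (x : Matrix ι ι F) ∈ φ.range := hrange ▸ mem_adj hx
      obtain ⟨a, ha⟩ := hx'
      have : a = a ⟨0, hd⟩ ⟨0, hd⟩ • 1 := by
        ext i j; obtain rfl : i = ⟨0, hd⟩ := Fin.ext (by omega); obtain rfl : j = ⟨0, hd⟩ := Fin.ext (by omega); simp
      refine mem_scalars_of_val (c := a ⟨0, hd⟩ ⟨0, hd⟩) ?_
      rw [← ha]; change φ a = _
      conv_lhs => rw [this]
      rw [map_smul, map_one]
    -- the conjugate algebra lies in the commutant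
    let Rr : Matrix (Fin d × Fin w) (Fin d × Fin w) F ≃ₐ[F] Matrix ι ι F :=
      (Matrix.reindexAlgEquiv F F e.symm).trans (cjA Q)
    have hQ' : ∀ a, φ a = Rr (a ⊗ₖ 1) := fun a => by rw [hQ]; rfl
    have hw : 0 < w := Nat.pos_of_ne_zero fun h => by subst h; rw [mul_zero] at hdw; exact Fintype.card_ne_zero hdw.symm
    have hrS : ∀ a : Matrix (Fin d) (Fin d) F, Rr.symm (cjA h (φ a)) ∈ (kronHom d w).range := by
      intro a
      obtain ⟨B, hB⟩ := kron_commutant hd (Rr.symm (cjA h (φ a))) fun i j => by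
        apply Rr.injective
        rw [map_mul, map_mul, AlgEquiv.apply_symm_apply, ← hQ']
        refine commute_adj (N := S) (M := cjA h (φ a)) (fun x hx => ?_) _ (hrange ▸ ⟨Matrix.single i j 1, rfl⟩)
        have ha : φ a ∈ adj S := hrange ▸ ⟨a, rfl⟩
        have h1 := commute_adj (N := S) (M := ((h⁻¹ * x * h : GL ι F) : Matrix ι ι F)) (fun y hy => by
          have := congrArg (fun u => h⁻¹ * u * h) (hcen h hh hne x hx _ ⟨y, hSR hy, rfl⟩).symm
          simpa [mul_assoc] using congrArg Units.val this) _ ha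
        have h2 := congrArg (cjA h) h1
        rw [map_mul, map_mul, show cjA h ((h⁻¹ * x * h : GL ι F) : Matrix ι ι F) = x by simp [mul_assoc]] at h2
        exact h2.symm
      exact ⟨B, hB.symm⟩
    have hdvd : d ∣ w := dvd_of_kron_range hd (Rr.symm.toAlgHom.comp ((cjA h).toAlgHom.comp φ)) hrS
    obtain ⟨r, hr⟩ := hdvd
    have hd12 : d = 2 ∧ w = 6 := by
      rw [hn, hr] at hdw
      have hdd : d * d * r = 12 := by rw [mul_assoc]; exact hdw
      have hd3 : d ≤ 3 := by
        by_contra hlt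
        have : 16 ≤ d * d := Nat.mul_le_mul (by omega : 4 ≤ d) (by omega : 4 ≤ d)
        have hr0 : 0 < r := by
          rcases Nat.eq_zero_or_pos r with h0 | h0
          · rw [h0, mul_zero] at hdd; omega
          · exact h0
        have := Nat.le_mul_of_pos_right (d * d) hr0
        omega
      interval_cases d <;> omega
    obtain ⟨rfl, rfl⟩ := hd12
    let ψ : GL ι F → (Matrix (Fin 2) (Fin 2) F →ₐ[F] Matrix ι ι F) := fun k => (cjA k).toAlgHom.comp φ
    have hmem : ∀ a, φ a ∈ adj S := fun a => hrange ▸ ⟨a, rfl⟩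
    have hψc : ∀ k ∈ H, R.map (MulAut.conj k).toMonoidHom ≠ R → ∀ a b, ψ k a * φ b = φ b * ψ k a :=
      fun k hk hne' a b => commute_conj (fun x hx y hy => hcen k hk hne' x hx _ ⟨y, hSR hy, rfl⟩) (hmem a) (hmem b)
    obtain ⟨hthird, M, hMφ, hMψ, hMs⟩ := two_factors Rr (ψ h) fun a b => by rw [← hQ']; exact hψc h hh hne a b
    have hthree : ∀ k ∈ H, R.map (MulAut.conj k).toMonoidHom = R ∨
        R.map (MulAut.conj k).toMonoidHom = R.map (MulAut.conj h).toMonoidHom := by
      intro k hk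
      by_contra hcon
      push Not at hcon
      have hne' : R.map (MulAut.conj (h⁻¹ * k)).toMonoidHom ≠ R := by
        intro heq
        refine hcon.2 ?_
        conv_rhs => rw [← heq, Subgroup.map_map]
        congr 1
        ext x
        simp [mul_assoc]
      refine hthird (ψ k) (fun a b => by rw [← hQ']; exact hψc k hk hcon.1 a b) fun a b => ?_
      have h3 := congrArg (cjA h) (hψc _ (mul_mem (inv_mem hh) hk) hne' a b)
      rw [map_mul, map_mul, show cjA h (ψ (h⁻¹ * k) a) = ψ k a by simp [ψ, mul_assoc]] at h3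
      exact h3
    obtain ⟨c, hc⟩ := scalar_of_commute htop (M := M) fun x hx => by
      rw [← hgen] at hx
      induction hx using Subgroup.closure_induction with
      | mem y hy =>
        obtain ⟨k, hk, s, hs, rfl⟩ := hy
        rcases hthree k hk with he | he
        · have he' : S.map (MulAut.conj k).toMonoidHom = S := by rw [hS, Subgroup.map_commutator, he]
          obtain ⟨a, ha⟩ : ((k * s * k⁻¹ : GL ι F) : Matrix ι ι F) ∈ φ.range :=
            hrange ▸ mem_adj (he' ▸ ⟨s, hs, rfl⟩ : k * s * k⁻¹ ∈ S)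
          rw [← ha]
          show M * φ a = φ a * M
          rw [hQ']
          exact hMφ a
        · have he' : S.map (MulAut.conj k).toMonoidHom = S.map (MulAut.conj h).toMonoidHom := by
            rw [hS, Subgroup.map_commutator, Subgroup.map_commutator, he]
          obtain ⟨t, ht, hts⟩ : k * s * k⁻¹ ∈ S.map (MulAut.conj h).toMonoidHom := he' ▸ ⟨s, hs, rfl⟩
          obtain ⟨a, ha⟩ : (t : Matrix ι ι F) ∈ φ.range := hrange ▸ mem_adj ht
          have hval : ((k * s * k⁻¹ : GL ι F) : Matrix ι ι F) = ψ h a := by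
            rw [← hts]
            show _ = cjA h (φ.toRingHom a)
            rw [ha]
            simp [mul_assoc]
          rw [hval]
          exact hMψ a
      | one => simp
      | mul a b _ _ iha ihb => rw [Units.val_mul, ← mul_assoc, iha, mul_assoc, ihb, mul_assoc]
      | inv a _ iha => exact ((show Commute M (a : Matrix ι ι F) from iha).units_inv_right).eq
    exact hMs c hc
  have hRP' : R = P := hmin R hRP (fun g hg x hx => (hfix g hg) ▸ ⟨x, hx, rfl⟩) hRsc
  subst hRP'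
  refine ⟨hPH, hPn, hperf, ?_, ?_, fun h _ hh => hcomm h hh, habs⟩
  · have hnt : Nontrivial (R ⧸ Sc.subgroupOf R) := by
      refine QuotientGroup.nontrivial_iff.2 fun hc => hRsc ?_
      exact Subgroup.subgroupOf_eq_top.1 hc
    refine IsSimpleGroup.mk fun U hU => ?_
    set V : Subgroup (GL ι F) := (U.comap (QuotientGroup.mk' (Sc.subgroupOf R))).map R.subtype with hV
    have hUn : (U.comap (QuotientGroup.mk' (Sc.subgroupOf R))).Normal := hU.comap _
    have hVn : ∀ g ∈ R, ∀ x ∈ V, g * x * g⁻¹ ∈ V := by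
      intro g hg x hx
      obtain ⟨y, hy, rfl⟩ := Subgroup.mem_map.1 hx
      refine Subgroup.mem_map.2 ⟨(⟨g, hg⟩ : R) * y * (⟨g, hg⟩ : R)⁻¹, hUn.conj_mem y hy (⟨g, hg⟩ : R), ?_⟩
      simp only [map_mul, map_inv, Subgroup.coe_subtype]
    by_cases hVs : V ≤ Sc
    · left
      rw [eq_bot_iff]
      intro u hu
      obtain ⟨x, rfl⟩ := QuotientGroup.mk'_surjective _ u
      exact (QuotientGroup.eq_one_iff _).2 (Subgroup.mem_subgroupOf.2 (hVs ⟨x, hu, rfl⟩))
    · right
      have hVR : V = R := Subgroup.eq_of_le_of_card_ge (Subgroup.map_subtype_le _) (hRmin V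
        ⟨Subgroup.map_subtype_le _, fun x hx => ⟨⟨x, hx.1⟩, by
          show QuotientGroup.mk' _ _ ∈ U
          rw [QuotientGroup.mk'_apply, (QuotientGroup.eq_one_iff _).2 (Subgroup.mem_subgroupOf.2 hx.2)]
          exact U.one_mem, rfl⟩, hVn, hVs⟩)
      rw [eq_top_iff]
      intro u _
      obtain ⟨x, rfl⟩ := QuotientGroup.mk'_surjective _ u
      obtain ⟨y, hy, hyx⟩ := (hVR.symm ▸ x.2 : (x : GL ι F) ∈ V)
      rwa [show y = x from Subtype.ext hyx] at hy
  · intro hc
    refine hRnab fun a ha b hb => ?_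
    have := hc.is_comm.comm (QuotientGroup.mk' (Sc.subgroupOf R) ⟨a, ha⟩) (QuotientGroup.mk' _ ⟨b, hb⟩)
    rw [← commutatorElement_eq_one_iff_mul_comm, ← map_commutatorElement, QuotientGroup.mk'_apply,
      QuotientGroup.eq_one_iff] at this
    exact Subgroup.mem_subgroupOf.1 this

/-- A non-scalar normal subgroup of least order. -/
theorem exists_minimal (hH : ¬ H ≤ scalars ι F) :
    ∃ P : Subgroup (GL ι F), P ≤ H ∧ (∀ g ∈ H, ∀ x ∈ P, g * x * g⁻¹ ∈ P) ∧ ¬ P ≤ scalars ι F ∧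
      ∀ M : Subgroup (GL ι F), M ≤ P → (∀ g ∈ H, ∀ x ∈ M, g * x * g⁻¹ ∈ M) → ¬ M ≤ scalars ι F → M = P := by
  classical
  obtain ⟨P, hPmem, hPmin⟩ := Set.exists_min_image
    {N : Subgroup (GL ι F) | N ≤ H ∧ (∀ g ∈ H, ∀ x ∈ N, g * x * g⁻¹ ∈ N) ∧ ¬ N ≤ scalars ι F} (fun N => Nat.card N)
    (Set.toFinite _) ⟨H, le_rfl, fun g hg x hx => mul_mem (mul_mem hg hx) (inv_mem hg), hH⟩
  exact ⟨P, hPmem.1, hPmem.2.1, hPmem.2.2,
    fun M hM hMn hMs => Subgroup.eq_of_le_of_card_ge hM (hPmin M ⟨hM.trans hPmem.1, hMn, hMs⟩)⟩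

end Finite

end Cfsg.Agent.Lib.TwelveDim
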